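import Groth.Agent.H26.IdealCl
import Groth.Agent.H23.GenAvoid
import Groth.Agent.InvX.GenLocus
import Groth.Agent.InvX.Tensor
import Groth.Agent.QCoh.Localize
import Groth.Agent.AmpleX.Separated

/-!
The effective Cartier divisor of a section of an invertible module which is regular at the associated
points, and the ideal sheaf image of a map into the structure sheaf.
-/

universe u

open CategoryTheory CategoryTheory.Limits AlgebraicGeometry TopologicalSpace Opposite MonoidalCategory

set_option autoImplicit false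
set_option backward.isDefEq.respectTransparency false
set_option backward.isDefEq.respectTransparency.types false

noncomputable section

namespace Groth.Agent.DivSect16

open Groth.Agent Groth.Agent.InvX Groth.Agent.AModX

variable {X : Scheme.{u}}

/-- Tensoring a map on the left, between the tensor products `CohB1.tensorMod`. -/
def wl (M : X.Modules) {N N' : X.Modules} (φ : N ⟶ N') : CohB1.tensorMod M N ⟶ CohB1.tensorMod M N' :=
  (DCoh.tensorBi.obj M).map φ

theorem mono_wl (M : X.Modules) {N N' : X.Modules} (φ : N ⟶ N') (h : Mono ((DCoh.tensorBi.obj M).map φ)) :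
    Mono (wl M φ) := h

theorem map_tmul_right {M N N' : X.Modules} (φ : N ⟶ N') {U : X.Opens} (a : Γ(M, U)) (b : Γ(N, U)) :
    (wl M φ).app U (InvX.tmul a b) = InvX.tmul a (φ.app U b) := by
  have h := KFlatLib.unitShP_naturality (MonoidalCategoryStruct.whiskerLeft (DCoh.toP.obj M) (DCoh.toP.map φ))
  exact congr(($h).app (op U) (KFlatLib.tm a b)).symm

/-- The ideal of functions in the image of a map into the structure sheaf. -/
def rangeIdealAt {P : X.Modules} (φ : P ⟶ Coh.structureModule X) (U : X.Opens) : Ideal Γ(X, U) where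
  carrier := Set.range fun s : Γ(P, U) => OmegaSh.fnSect X U (φ.app U s)
  add_mem' := by
    rintro _ _ ⟨a, rfl⟩ ⟨b, rfl⟩
    exact ⟨a + b, by simp only [map_add]⟩
  zero_mem' := ⟨0, by simp only [map_zero]⟩
  smul_mem' := by
    rintro r _ ⟨a, rfl⟩
    refine ⟨r • a, ?_⟩
    show OmegaSh.fnSect X U (φ.app U (r • a)) = _
    rw [Scheme.Modules.Hom.app_smul]
    rfl

theorem mem_rangeIdealAt {P : X.Modules} (φ : P ⟶ Coh.structureModule X) {U : X.Opens} {x : Γ(X, U)} :
    x ∈ rangeIdealAt φ U ↔ ∃ s : Γ(P, U), OmegaSh.fnSect X U (φ.app U s) = x := Iff.rfl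

theorem fnSect_app_res {P : X.Modules} (φ : P ⟶ Coh.structureModule X) {U V : X.Opens} (h : V ≤ U) (t : Γ(P, U)) :
    OmegaSh.fnSect X V (φ.app V (res P h t)) = X.presheaf.map (homOfLE h).op (OmegaSh.fnSect X U (φ.app U t)) := by
  rw [AModX.app_res φ h t]
  rfl

theorem map_rangeIdealAt {P : X.Modules} (hP : Coh.IsQCoh P) (φ : P ⟶ Coh.structureModule X)
    (U : X.affineOpens) (f : Γ(X, U.1)) :
    (rangeIdealAt φ U.1).map (X.presheaf.map (homOfLE <| X.basicOpen_le f).op).hom =
      rangeIdealAt φ (X.affineBasicOpen f).1 := by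
  refine le_antisymm (Ideal.map_le_iff_le_comap.2 ?_) ?_
  · rintro _ ⟨t, rfl⟩
    exact ⟨res P (X.basicOpen_le f) t, fnSect_app_res φ _ t⟩
  · rintro _ ⟨s, rfl⟩
    show OmegaSh.fnSect X (X.basicOpen f) (φ.app (X.basicOpen f) s) ∈
      Ideal.map (X.presheaf.map (homOfLE <| X.basicOpen_le f).op).hom (rangeIdealAt φ U.1)
    obtain ⟨n, t, ht⟩ := QCoh.exists_pow_smul_eq_map hP U.2 f s
    have hu : IsUnit (X.presheaf.map (homOfLE (X.basicOpen_le f)).op f ^ n) :=
      IsUnit.pow n (RingedSpace.isUnit_res_basicOpen _ f)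
    rw [← Ideal.unit_mul_mem_iff_mem _ hu]
    have e : OmegaSh.fnSect X (X.basicOpen f) (φ.app (X.basicOpen f) (res P (X.basicOpen_le f) t)) =
        X.presheaf.map (homOfLE (X.basicOpen_le f)).op f ^ n * OmegaSh.fnSect X (X.basicOpen f) (φ.app (X.basicOpen f) s) := by
      show OmegaSh.fnSect X (X.basicOpen f) (φ.app (X.basicOpen f) (P.presheaf.map (homOfLE (X.basicOpen_le f)).op t)) = _
      rw [ht, Scheme.Modules.Hom.app_smul]
      rfl
    rw [← e]
    exact (fnSect_app_res φ _ t).symm ▸ Ideal.mem_map_of_mem _ ⟨t, rfl⟩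

/-- The ideal sheaf image of a map from a quasi-coherent module into the structure sheaf. -/
def rangeIdeal {P : X.Modules} (hP : Coh.IsQCoh P) (φ : P ⟶ Coh.structureModule X) : X.IdealSheafData :=
  { ideal := fun U => rangeIdealAt φ U.1
    map_ideal_basicOpen := map_rangeIdealAt hP φ }

/-- The divisor of a section generating at the associated points. -/
theorem exists_divisor [IsLocallyNoetherian X] {A A' : X.Modules} (hA : PicF.IsInvertible A) (hA' : PicF.IsInvertible A')
    (e : CohB1.tensorMod A' A ≅ Coh.structureModule X) (s : Coh.structureModule X ⟶ A)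
    (h : ∀ y ∈ AssSch.Ass (Coh.structureModule X), y ∈ CohB1.genLocus A s) :
    ∃ D : X.IdealSheafData, BlowUp.IsEffCartierIdeal D ∧ Nonempty (A' ≅ ClSub.idealMod D) ∧
      ∀ x ∈ CohB1.genLocus A s, x ∉ D.support := by
  have hq' : Coh.IsQCoh A' := QCoh.isQCoh_of_isFinLocFree (H23.PullPush.isFinLocFree_of_isInvertible hA')
  have hO : Coh.IsQCoh (Coh.structureModule X) :=
    QCoh.isQCoh_of_isFinLocFree (H23.PullPush.isFinLocFree_of_isInvertible InvX.isInvertible_structureModule)
  haveI := H26.IdealCl.isEquivalence_tensor (InvX.isInvertible_structureModule (X := X))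
  haveI := H26.IdealCl.isEquivalence_tensor hA'
  haveI : Mono ((DCoh.tensorBi.obj (Coh.structureModule X)).map s) := H23.GenAvoid.mono_tensor_of_ass hA hO s h
  haveI : Mono s := (DCoh.tensorBi.obj (Coh.structureModule X)).mono_of_mono_map inferInstance
  haveI : Mono (wl A' s) := mono_wl A' s inferInstance
  obtain ⟨u⟩ := H23.PicMul.unit A'
  obtain ⟨φ, hφ⟩ : ∃ φ : A' ⟶ Coh.structureModule X, φ = u.inv ≫ wl A' s ≫ e.hom := ⟨_, rfl⟩
  haveI : Mono φ := by
    rw [hφ]
    haveI : Mono (wl A' s ≫ e.hom) := mono_comp _ _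
    exact mono_comp _ _
  obtain ⟨D, hD⟩ : ∃ D : X.IdealSheafData, D = rangeIdeal hq' φ := ⟨_, rfl⟩
  obtain ⟨i⟩ := H26.IdealCl.nonempty_iso_of_range φ D fun _ => by rw [hD]; rfl
  refine ⟨D, (S8914.result D).1 (H23.PicMul.isInvertible_of_iso i hA'), ⟨i⟩, fun x hx => ?_⟩
  obtain ⟨W, hxW, hW⟩ := InvX.mem_genLocus hx
  obtain ⟨W', hxW', a', ha'⟩ := InvX.exists_frame hA' x
  obtain ⟨U, hU, hxU, hUW⟩ := exists_isAffineOpen_mem_and_subset (show x ∈ W ⊓ W' from ⟨hxW, hxW'⟩)
  have hUW1 : U ≤ W := fun y hy => (hUW hy).1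
  have hUW2 : U ≤ W' := fun y hy => (hUW hy).2
  have ha : IsFrame (res A (le_top : U ≤ ⊤) (one s)) := by
    have := hW.res hUW1
    rwa [res_res] at this
  have hfr : IsFrame (InvX.tmul (res A' hUW2 a') (res A (le_top : U ≤ ⊤) (one s))) :=
    isFrame_tmul (ha'.res _) ha
  obtain ⟨c, hc⟩ := hfr.exists_coord le_rfl (e.inv.app U (show Γ(Coh.structureModule X, U) from (1 : Γ(X, U))))
  rw [res_self] at hc
  let t : Γ(CohB1.tensorMod A' (Coh.structureModule X), U) :=
    c • InvX.tmul (res A' hUW2 a') (res (Coh.structureModule X) (le_top : U ≤ ⊤) (show Γ(Coh.structureModule X, ⊤) from (1 : Γ(X, ⊤))))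
  have h1 : (1 : Γ(X, U)) ∈ D.ideal ⟨U, hU⟩ := by
    rw [hD]
    show (1 : Γ(X, U)) ∈ rangeIdealAt φ U
    rw [mem_rangeIdealAt, hφ]
    refine ⟨u.hom.app U t, ?_⟩
    show OmegaSh.fnSect X U (e.hom.app U ((wl A' s).app U (u.inv.app U (u.hom.app U t)))) = 1
    rw [show u.inv.app U (u.hom.app U t) = t from
      congrArg (fun k : CohB1.tensorMod A' (Coh.structureModule X) ⟶ CohB1.tensorMod A' (Coh.structureModule X) => k.app U t) u.hom_inv_id,
      Scheme.Modules.Hom.app_smul]
    erw [map_tmul_right]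
    rw [show s.app U (res (Coh.structureModule X) (le_top : U ≤ ⊤) (show Γ(Coh.structureModule X, ⊤) from (1 : Γ(X, ⊤)))) =
      res A (le_top : U ≤ ⊤) (one s) from AModX.app_res s _ _]
    erw [← hc]
    exact congrArg (fun k : Coh.structureModule X ⟶ Coh.structureModule X =>
      OmegaSh.fnSect X U (k.app U (show Γ(Coh.structureModule X, U) from (1 : Γ(X, U))))) e.inv_hom_id
  rw [Scheme.IdealSheafData.mem_support_iff_of_mem (U := ⟨U, hU⟩) hxU, Scheme.mem_zeroLocus_iff]
  exact fun h2 => h2 1 h1 (by rw [Scheme.basicOpen_of_isUnit _ isUnit_one]; exact hxU)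

end Groth.Agent.DivSect16
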